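import Mathlib.Algebra.MvPolynomial.Expand
import Mathlib.Algebra.MvPolynomial.Derivation
import Mathlib.Algebra.CharP.Two
import Mathlib.RingTheory.Adjoin.Basic
import Mathlib.Tactic

/-!
# Kernels of additive derivations of `R[x, y]` in characteristic two
-/

set_option autoImplicit false

open MvPolynomial

universe u

namespace Groth.Agent.KumKer

variable {R : Type u} [CommRing R] [CharP R 2]


/-- the four parity components -/
noncomputable def comb (a b : ℕ) (A B C' E : (MvPolynomial (Fin 2) R)) : (MvPolynomial (Fin 2) R) :=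
  (expand (σ := Fin 2) (R := R) 2) A + X 0 ^ a * (expand (σ := Fin 2) (R := R) 2) B + X 1 ^ b * (expand (σ := Fin 2) (R := R) 2) C' + X 0 ^ a * X 1 ^ b * (expand (σ := Fin 2) (R := R) 2) E

/-- having a decomposition into parity components -/
def Form (a b : ℕ) (p : (MvPolynomial (Fin 2) R)) : Prop := ∃ A B C' E, p = comb a b A B C' E

theorem sq_X (i : Fin 2) (a : ℕ) : (X i : (MvPolynomial (Fin 2) R)) ^ a * X i ^ a = (expand (σ := Fin 2) (R := R) 2) (X i ^ a) := by
  rw [map_pow, expand_X, ← pow_mul, ← pow_add]; ring_nf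

theorem form_adjoin {a b : ℕ} (s : Set (MvPolynomial (Fin 2) R)) (hs : ∀ p ∈ s, Form a b p) {p : (MvPolynomial (Fin 2) R)} (hp : p ∈ Algebra.adjoin R s) :
    Form a b p := by
  induction hp using Algebra.adjoin_induction with
  | mem x hx => exact hs x hx
  | algebraMap r => exact ⟨C r, 0, 0, 0, by simp [comb, algebraMap_eq]⟩
  | add x y _ _ hx hy =>
    obtain ⟨A, B, C', E, rfl⟩ := hx
    obtain ⟨A₁, B₁, C₁, E₁, rfl⟩ := hy
    exact ⟨A + A₁, B + B₁, C' + C₁, E + E₁, by simp [comb]; ring⟩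
  | mul x y _ _ hx hy =>
    obtain ⟨A, B, C', E, rfl⟩ := hx
    obtain ⟨A₁, B₁, C₁, E₁, rfl⟩ := hy
    refine ⟨A * A₁ + X 0 ^ a * (B * B₁) + X 1 ^ b * (C' * C₁) + X 0 ^ a * X 1 ^ b * (E * E₁),
      A * B₁ + B * A₁ + X 1 ^ b * (C' * E₁ + E * C₁),
      A * C₁ + C' * A₁ + X 0 ^ a * (B * E₁ + E * B₁),
      A * E₁ + E * A₁ + B * C₁ + C' * B₁, ?_⟩
    simp only [comb, map_add, map_mul, ← sq_X]
    ring

theorem coeff_shift_eq_zero (i j : ℕ) (q : (MvPolynomial (Fin 2) R)) (n : Fin 2 →₀ ℕ) (h : n 0 % 2 ≠ i % 2 ∨ n 1 % 2 ≠ j % 2) :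
    coeff n (X 0 ^ i * X 1 ^ j * (expand (σ := Fin 2) (R := R) 2) q) = 0 := by
  rw [X_pow_eq_monomial, X_pow_eq_monomial, monomial_mul, coeff_monomial_mul']
  split_ifs with hle
  · have h0 := hle 0
    have h1 := hle 1
    simp at h0 h1
    rcases h with h | h
    · rw [coeff_expand_of_not_dvd (i := 0) (h := by simp; omega), mul_zero]
    · rw [coeff_expand_of_not_dvd (i := 1) (h := by simp; omega), mul_zero]
  · rfl

theorem coeff_shift (i j : ℕ) (q : (MvPolynomial (Fin 2) R)) (m : Fin 2 →₀ ℕ) :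
    coeff (Finsupp.single 0 i + Finsupp.single 1 j + 2 • m) (X 0 ^ i * X 1 ^ j * (expand (σ := Fin 2) (R := R) 2) q) = coeff m q := by
  rw [X_pow_eq_monomial, X_pow_eq_monomial, monomial_mul, coeff_monomial_mul, coeff_expand_smul (hp := two_ne_zero)]
  simp

theorem eq_zero_of_comb {a b : ℕ} (ha : Odd a) (hb : Odd b) {A B C' E : (MvPolynomial (Fin 2) R)} (h : comb a b A B C' E = 0) :
    A = 0 ∧ B = 0 ∧ C' = 0 ∧ E = 0 := by
  have ha' := Nat.odd_iff.mp ha
  have hb' := Nat.odd_iff.mp hb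
  have h' : X 0 ^ 0 * X 1 ^ 0 * (expand (σ := Fin 2) (R := R) 2) A + X 0 ^ a * X 1 ^ 0 * (expand (σ := Fin 2) (R := R) 2) B + X 0 ^ 0 * X 1 ^ b * (expand (σ := Fin 2) (R := R) 2) C' +
      X 0 ^ a * X 1 ^ b * (expand (σ := Fin 2) (R := R) 2) E = 0 := by
    rw [← h]; simp [comb]
  have key : ∀ n, coeff n (X 0 ^ 0 * X 1 ^ 0 * (expand (σ := Fin 2) (R := R) 2) A) + coeff n (X 0 ^ a * X 1 ^ 0 * (expand (σ := Fin 2) (R := R) 2) B) +
      coeff n (X 0 ^ 0 * X 1 ^ b * (expand (σ := Fin 2) (R := R) 2) C') + coeff n (X 0 ^ a * X 1 ^ b * (expand (σ := Fin 2) (R := R) 2) E) = 0 := fun n => by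
    simp only [← coeff_add, h', coeff_zero]
  refine ⟨ext _ _ fun m => ?_, ext _ _ fun m => ?_, ext _ _ fun m => ?_, ext _ _ fun m => ?_⟩
  · have := key (Finsupp.single 0 0 + Finsupp.single 1 0 + 2 • m)
    rw [coeff_shift, coeff_shift_eq_zero a 0 B _ (Or.inl (by simp; omega)),
      coeff_shift_eq_zero 0 b C' _ (Or.inr (by simp; omega)), coeff_shift_eq_zero a b E _ (Or.inl (by simp; omega))] at this
    simpa using this
  · have := key (Finsupp.single 0 a + Finsupp.single 1 0 + 2 • m)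
    rw [coeff_shift, coeff_shift_eq_zero 0 0 A _ (Or.inl (by simp; omega)),
      coeff_shift_eq_zero 0 b C' _ (Or.inr (by simp; omega)), coeff_shift_eq_zero a b E _ (Or.inr (by simp; omega))] at this
    simpa using this
  · have := key (Finsupp.single 0 0 + Finsupp.single 1 b + 2 • m)
    rw [coeff_shift, coeff_shift_eq_zero 0 0 A _ (Or.inr (by simp; omega)),
      coeff_shift_eq_zero a 0 B _ (Or.inr (by simp; omega)), coeff_shift_eq_zero a b E _ (Or.inl (by simp; omega))] at this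
    simpa using this
  · have := key (Finsupp.single 0 a + Finsupp.single 1 b + 2 • m)
    rw [coeff_shift, coeff_shift_eq_zero 0 0 A _ (Or.inl (by simp; omega)),
      coeff_shift_eq_zero a 0 B _ (Or.inr (by simp; omega)), coeff_shift_eq_zero 0 b C' _ (Or.inl (by simp; omega))] at this
    simpa using this

theorem two_eq_zero_poly : (2 : (MvPolynomial (Fin 2) R)) = 0 := CharTwo.two_eq_zero

variable (D : Derivation R (MvPolynomial (Fin 2) R) (MvPolynomial (Fin 2) R))

theorem D_expand (q : (MvPolynomial (Fin 2) R)) : D ((expand (σ := Fin 2) (R := R) 2) q) = 0 := by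
  induction q using MvPolynomial.induction_on with
  | C r => rw [expand_C]; exact MvPolynomial.derivation_C D r
  | add p q hp hq => simp [hp, hq]
  | mul_X p i hp =>
    rw [map_mul, expand_X, Derivation.leibniz, hp, smul_zero, add_zero, Derivation.leibniz_pow]
    simp only [nsmul_eq_mul, smul_eq_mul]
    rw [show ((2 : ℕ) : (MvPolynomial (Fin 2) R)) = 0 by exact_mod_cast two_eq_zero_poly]
    ring

variable {a b : ℕ} (ha : Odd a) (hb : Odd b) (τ : R) (hτ : IsUnit τ) (M P S : MvPolynomial (Fin 2) R)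
  (hM : ∀ q : (MvPolynomial (Fin 2) R), M * q = 0 → q = 0)
  (hDx : D (X 0 ^ a) = (expand (σ := Fin 2) (R := R) 2) M * ((expand (σ := Fin 2) (R := R) 2) P + C τ * X 0 ^ a)) (hDy : D (X 1 ^ b) = (expand (σ := Fin 2) (R := R) 2) M * ((expand (σ := Fin 2) (R := R) 2) S + C τ * X 1 ^ b))

/-- the invariant -/
noncomputable def gen (a b : ℕ) (τ : R) (P S : (MvPolynomial (Fin 2) R)) : (MvPolynomial (Fin 2) R) :=
  X 0 ^ a * (expand (σ := Fin 2) (R := R) 2) S + X 1 ^ b * (expand (σ := Fin 2) (R := R) 2) P + C τ * (X 0 ^ a * X 1 ^ b)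

include hDx hDy in
theorem D_comb (A B C' E : (MvPolynomial (Fin 2) R)) :
    D (comb a b A B C' E) = comb a b (M * (P * B + S * C')) (M * (C τ * B + S * E)) (M * (C τ * C' + P * E)) 0 := by
  simp only [comb, map_add, Derivation.leibniz, D_expand, smul_zero, zero_add, add_zero, smul_eq_mul, hDx, hDy, map_mul,
    expand_C, map_zero, mul_zero]
  linear_combination ((expand (σ := Fin 2) (R := R) 2) M * C τ * X 0 ^ a * X 1 ^ b * (expand (σ := Fin 2) (R := R) 2) E) * two_eq_zero_poly (R := R)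

include hDx hDy in
theorem D_gen : D (gen a b τ P S) = 0 := by
  have h := D_comb D τ M P S hDx hDy 0 S P (C τ)
  have e : comb a b 0 S P (C τ) = gen a b τ P S := by simp [comb, gen]; ring
  rw [e] at h
  rw [h, comb]
  simp only [map_add, map_mul, map_zero]
  linear_combination ((expand (σ := Fin 2) (R := R) 2) M * (expand (σ := Fin 2) (R := R) 2) P * (expand (σ := Fin 2) (R := R) 2) S + X 0 ^ a * (expand (σ := Fin 2) (R := R) 2) M * (expand (σ := Fin 2) (R := R) 2) (C τ) * (expand (σ := Fin 2) (R := R) 2) S + X 1 ^ b * (expand (σ := Fin 2) (R := R) 2) M * (expand (σ := Fin 2) (R := R) 2) (C τ) * (expand (σ := Fin 2) (R := R) 2) P) *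
    two_eq_zero_poly (R := R)

include hDx hDy in
theorem D_form_eq_zero (A E : (MvPolynomial (Fin 2) R)) : D ((expand (σ := Fin 2) (R := R) 2) A + gen a b τ P S * (expand (σ := Fin 2) (R := R) 2) E) = 0 := by
  rw [map_add, D_expand, Derivation.leibniz, D_expand, D_gen D τ M P S hDx hDy]
  simp

include ha hb hτ hM hDx hDy in
theorem exists_of_D_eq_zero {p : (MvPolynomial (Fin 2) R)} (hp : Form a b p) (h : D p = 0) :
    ∃ A E : (MvPolynomial (Fin 2) R), p = (expand (σ := Fin 2) (R := R) 2) A + gen a b τ P S * (expand (σ := Fin 2) (R := R) 2) E := by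
  obtain ⟨A, B, C', E, rfl⟩ := hp
  rw [D_comb D τ M P S hDx hDy] at h
  obtain ⟨-, hB, hC, -⟩ := eq_zero_of_comb ha hb h
  obtain ⟨v, hv⟩ := hτ.exists_left_inv
  have hv' : (C v : (MvPolynomial (Fin 2) R)) * C τ = 1 := by rw [← C_mul, hv, C_1]
  have hB' : B = C v * (S * E) := by
    linear_combination C v * hM _ hB - B * hv' - C v * S * E * two_eq_zero_poly (R := R)
  have hC' : C' = C v * (P * E) := by
    linear_combination C v * hM _ hC - C' * hv' - C v * P * E * two_eq_zero_poly (R := R)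
  refine ⟨A, C v * E, ?_⟩
  have hexp : (expand (σ := Fin 2) (R := R) 2) (C v) * C τ = 1 := by rw [expand_C]; exact hv'
  subst hB' hC'
  simp only [comb, gen, map_mul]
  linear_combination -(X 0 ^ a * X 1 ^ b * (expand (σ := Fin 2) (R := R) 2) E) * hexp

theorem mem_range_iff (g : (MvPolynomial (Fin 2) R)) (f : MvPolynomial (Fin 3) R →ₐ[R] (MvPolynomial (Fin 2) R)) (h0 : f (X 0) = X 0 ^ 2) (h1 : f (X 1) = X 1 ^ 2)
    (A : (MvPolynomial (Fin 2) R)) : f (rename Fin.castSucc A) = (expand (σ := Fin 2) (R := R) 2) A := by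
  induction A using MvPolynomial.induction_on with
  | C r => rw [rename_C, expand_C]; exact f.commutes r
  | add p q hp hq => rw [map_add, map_add, hp, hq, map_add]
  | mul_X p i hp =>
    rw [map_mul, map_mul, hp, rename_X, map_mul, expand_X]
    fin_cases i
    · simp [h0]
    · simp [h1]

theorem exists_normal_form (Φ : (MvPolynomial (Fin 2) R)) (p : MvPolynomial (Fin 3) R) :
    ∃ A B Q, p = rename Fin.castSucc A + X 2 * rename Fin.castSucc B + (X 2 ^ 2 + rename Fin.castSucc Φ) * Q := by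
  induction p using MvPolynomial.induction_on with
  | C r => exact ⟨C r, 0, 0, by simp⟩
  | add p q hp hq =>
    obtain ⟨A, B, Q, rfl⟩ := hp
    obtain ⟨A', B', Q', rfl⟩ := hq
    exact ⟨A + A', B + B', Q + Q', by simp only [map_add]; ring⟩
  | mul_X p i hp =>
    obtain ⟨A, B, Q, rfl⟩ := hp
    rcases (show i = Fin.castSucc (0 : Fin 2) ∨ i = Fin.castSucc (1 : Fin 2) ∨ i = 2 by fin_cases i <;> simp) with
      rfl | rfl | rfl
    · exact ⟨A * X 0, B * X 0, Q * X (Fin.castSucc 0), by simp only [map_mul, rename_X]; ring⟩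
    · exact ⟨A * X 1, B * X 1, Q * X (Fin.castSucc 1), by simp only [map_mul, rename_X]; ring⟩
    · exact ⟨-(Φ * B), A, Q * X 2 + rename Fin.castSucc B, by simp only [map_neg, map_mul]; ring⟩

theorem range_eq (g : (MvPolynomial (Fin 2) R)) (f : MvPolynomial (Fin 3) R →ₐ[R] (MvPolynomial (Fin 2) R)) (h0 : f (X 0) = X 0 ^ 2) (h1 : f (X 1) = X 1 ^ 2)
    (h2 : f (X 2) = g) (Φ : (MvPolynomial (Fin 2) R)) (hg : g ^ 2 = (expand (σ := Fin 2) (R := R) 2) Φ) {p : (MvPolynomial (Fin 2) R)} : p ∈ f.range ↔ ∃ A E : (MvPolynomial (Fin 2) R), p = (expand (σ := Fin 2) (R := R) 2) A + g * (expand (σ := Fin 2) (R := R) 2) E := by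
  constructor
  · rintro ⟨q, rfl⟩
    obtain ⟨A, B, Q, rfl⟩ := exists_normal_form Φ q
    refine ⟨A, B, ?_⟩
    change f _ = _
    simp only [map_add, map_mul, map_pow, mem_range_iff g f h0 h1, h2, hg]
    linear_combination ((expand (σ := Fin 2) (R := R) 2) Φ * f Q) * two_eq_zero_poly (R := R)
  · rintro ⟨A, E, rfl⟩
    exact ⟨rename Fin.castSucc A + X 2 * rename Fin.castSucc E, by
      change f _ = _; simp only [map_add, map_mul, mem_range_iff g f h0 h1, h2]⟩

include ha hb hτ in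
theorem ker_eq (f : MvPolynomial (Fin 3) R →ₐ[R] (MvPolynomial (Fin 2) R)) (h0 : f (X 0) = X 0 ^ 2) (h1 : f (X 1) = X 1 ^ 2)
    (h2 : f (X 2) = gen a b τ P S) :
    RingHom.ker f = Ideal.span {X 2 ^ 2 +
      rename Fin.castSucc (X 0 ^ a * S ^ 2 + X 1 ^ b * P ^ 2 + C (τ ^ 2) * (X 0 ^ a * X 1 ^ b))} := by
  set Φ : (MvPolynomial (Fin 2) R) := X 0 ^ a * S ^ 2 + X 1 ^ b * P ^ 2 + C (τ ^ 2) * (X 0 ^ a * X 1 ^ b) with hΦ
  have hg : gen a b τ P S ^ 2 = (expand (σ := Fin 2) (R := R) 2) Φ := by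
    rw [hΦ, gen, CharTwo.add_sq, CharTwo.add_sq]
    simp only [map_add, map_mul, map_pow, expand_C, expand_X]
    ring
  refine le_antisymm (fun p hp => ?_) ?_
  · obtain ⟨A, B, Q, rfl⟩ := exists_normal_form Φ p
    rw [RingHom.mem_ker] at hp
    simp only [map_add, map_mul, map_pow, mem_range_iff (gen a b τ P S) f h0 h1, h2, hg] at hp
    have h : comb a b A (S * B) (P * B) (C τ * B) = 0 := by
      rw [← hp, comb, gen]
      simp only [map_mul, expand_C]
      linear_combination (-((expand (σ := Fin 2) (R := R) 2) Φ) * f Q) * two_eq_zero_poly (R := R)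
    obtain ⟨hA, -, -, hB⟩ := eq_zero_of_comb ha hb h
    obtain ⟨v, hv⟩ := hτ.exists_left_inv
    have hB' : B = 0 := by
      rw [← one_mul B, ← C_1, ← hv, C_mul, mul_assoc, hB, mul_zero]
    rw [hA, hB', map_zero, mul_zero, zero_add, zero_add]
    exact Ideal.mul_mem_right _ _ (Ideal.mem_span_singleton_self _)
  · rw [Ideal.span_singleton_le_iff_mem, RingHom.mem_ker]
    simp only [map_add, map_pow, mem_range_iff (gen a b τ P S) f h0 h1, h2, hg]
    linear_combination (expand (σ := Fin 2) (R := R) 2) Φ * two_eq_zero_poly (R := R)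

end Groth.Agent.KumKer
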